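import Mathlib

/-! Iterated equalizers of a finite extension of a Noetherian ring. -/

set_option autoImplicit false
open TensorProduct

namespace IterEq

universe u

theorem isArtinian_of_killed {T W : Type*} [CommRing T] [IsNoetherianRing T] [AddCommGroup W]
    [Module T W] [Module.Finite T W] (J : Ideal T) (hJ : ∀ t ∈ J, ∀ w : W, t • w = 0)
    (hmax : ∀ Q : Ideal T, Q.IsPrime → J ≤ Q → Q.IsMaximal) : IsArtinian T W := by
  classical
  have hdim : Ring.KrullDimLE 0 (T ⧸ J) := Ring.krullDimLE_zero_iff.2 fun Q hQ => by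
    have hm : (Q.comap (Ideal.Quotient.mk J)).IsMaximal := hmax _ (Ideal.comap_isPrime _ _) (by
      intro x hx
      rw [Ideal.mem_comap, Ideal.Quotient.eq_zero_iff_mem.2 hx]
      exact Q.zero_mem)
    have := Ideal.map_eq_top_or_isMaximal_of_surjective _ (Ideal.Quotient.mk_surjective (I := J)) hm
    rw [Ideal.map_comap_of_surjective _ Ideal.Quotient.mk_surjective] at this
    exact this.resolve_left hQ.ne_top
  have : IsArtinianRing (T ⧸ J) := IsNoetherianRing.isArtinianRing_of_krullDimLE_zero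
  have : IsArtinian T (T ⧸ J) := isArtinian_of_surjective_algebraMap (R := T ⧸ J) (M := T ⧸ J) Ideal.Quotient.mk_surjective
  obtain ⟨k, w, hw⟩ := Module.Finite.exists_fin (R := T) (M := W)
  let F : (Fin k → T ⧸ J) →ₗ[T] W := LinearMap.lsum T (fun _ => T ⧸ J) T fun j =>
    Submodule.liftQ J (LinearMap.toSpanSingleton T W (w j)) fun t ht => hJ t ht (w j)
  refine isArtinian_of_surjective _ F fun x => ?_
  have hx : x ∈ Submodule.span T (Set.range w) := by rw [hw]; trivial
  obtain ⟨c, rfl⟩ := (Submodule.mem_span_range_iff_exists_fun T).1 hx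
  exact ⟨fun j => Ideal.Quotient.mk J (c j), by simp [F]; exact Finset.sum_congr rfl fun j _ => rfl⟩

variable {A B : Type u} [CommRing A] [CommRing B] [Algebra A B]

theorem mem_range_of_locally_tmul {D : Type u} [CommRing D] [Algebra A D] [Module.Finite A D]
    (p : Ideal A) [p.IsPrime]
    (h : ∀ d : D, ∃ s ∉ p, s • (d ⊗ₜ[A] (1 : D) - (1 : D) ⊗ₜ[A] d) = (0 : D ⊗[A] D)) (d : D) :
    ∃ s ∉ p, ∃ a : A, algebraMap A D a = s • d := by
  set S := p.primeCompl
  set T := Localization.AtPrime p
  set Dp := Localization (Algebra.algebraMapSubmonoid D S)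
  have : Module.Finite T Dp := Module.Finite.of_isLocalization A D S
  have hepi : Algebra.IsEpi T Dp := by
    refine (Algebra.isEpi_iff_forall_one_tmul_eq T Dp).2 fun x => ?_
    have key : ∀ b : D, (1 : Dp) ⊗ₜ[T] algebraMap D Dp b = algebraMap D Dp b ⊗ₜ[T] (1 : Dp) := by
      intro b
      obtain ⟨s, hs, hsb⟩ := h b
      let θ : D ⊗[A] D →ₐ[A] Dp ⊗[T] Dp := Algebra.TensorProduct.lift
        (((Algebra.TensorProduct.includeLeft : Dp →ₐ[T] Dp ⊗[T] Dp).restrictScalars A).comp
          (IsScalarTower.toAlgHom A D Dp))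
        (((Algebra.TensorProduct.includeRight : Dp →ₐ[T] Dp ⊗[T] Dp).restrictScalars A).comp
          (IsScalarTower.toAlgHom A D Dp))
        (fun _ _ => Commute.all _ _)
      have h0 := congrArg θ hsb
      rw [map_smul, map_zero, map_sub] at h0
      simp only [θ, Algebra.TensorProduct.lift_tmul, map_one, mul_one, one_mul] at h0
      have hu : IsUnit (algebraMap A T s) := IsLocalization.map_units T (⟨s, hs⟩ : S)
      rw [← algebraMap_smul T s, hu.smul_eq_zero] at h0
      exact (sub_eq_zero.1 h0).symm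
    obtain ⟨⟨b, _, s, hs, rfl⟩, hx⟩ := IsLocalization.surj (Algebra.algebraMapSubmonoid D S) x
    have hu : IsUnit (algebraMap A T s) := IsLocalization.map_units T (⟨s, hs⟩ : S)
    have hx' : (algebraMap A T s) • x = algebraMap D Dp b := by
      rw [Algebra.smul_def, ← IsScalarTower.algebraMap_apply, mul_comm, ← hx,
        ← IsScalarTower.algebraMap_apply]
    have hk := key b
    rw [← hx', tmul_smul, smul_tmul'] at hk
    rw [← smul_tmul', ← smul_tmul'] at hk
    exact hu.smul_left_cancel.1 hk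
  have hsurj := Algebra.isEpi_iff_surjective_algebraMap_of_finite.1 hepi
  obtain ⟨t, ht⟩ := hsurj (algebraMap D Dp d)
  obtain ⟨⟨a, u⟩, ha⟩ := IsLocalization.surj S t
  have h1 : algebraMap D Dp (algebraMap A D a) = algebraMap D Dp (algebraMap A D (u : A) * d) := by
    rw [map_mul, ← IsScalarTower.algebraMap_apply A D Dp, ← IsScalarTower.algebraMap_apply A D Dp,
      IsScalarTower.algebraMap_apply A T Dp, IsScalarTower.algebraMap_apply A T Dp, ← ha, map_mul, ht]
    exact mul_comm _ _
  obtain ⟨⟨_, v, hv, rfl⟩, hv'⟩ :=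
    (IsLocalization.eq_iff_exists (Algebra.algebraMapSubmonoid D S) Dp).1 h1
  refine ⟨v * u, S.mul_mem hv u.2, v * a, ?_⟩
  rw [map_mul, Algebra.smul_def, map_mul, mul_assoc]
  exact hv'

theorem exists_eq_bot [IsNoetherianRing A] [Module.Finite A B]
    (C : ℕ → Subalgebra A B)
    (hstep : ∀ (i : ℕ) (b : B), b ∈ C (i + 1) ↔ ∃ hb : b ∈ C i,
      ((⟨b, hb⟩ : C i) ⊗ₜ[A] (1 : C i) : C i ⊗[A] C i) = (1 : C i) ⊗ₜ[A] (⟨b, hb⟩ : C i)) :
    ∃ m : ℕ, C m = ⊥ := by
  classical
  let N : Submodule A B := Subalgebra.toSubmodule ⊥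
  let M : ℕ → Submodule A (B ⧸ N) := fun i => (Subalgebra.toSubmodule (C i)).map N.mkQ
  have hC : Antitone C := antitone_nat_of_succ_le fun i b hb => ((hstep i b).1 hb).1
  have hM : Antitone M := fun i j hij => Submodule.map_mono (fun b hb => hC hij hb)
  let J : ℕ →o Ideal A :=
    ⟨fun i => Module.annihilator A (M i), fun i j hij => by
      intro a ha
      rw [Module.mem_annihilator] at ha ⊢
      intro x
      exact Subtype.ext (congrArg Subtype.val (ha ⟨x, hM hij x.2⟩) : _)⟩
  obtain ⟨m, hm⟩ := monotone_stabilizes_iff_noetherian.2 (inferInstance : IsNoetherian A A) J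
  by_cases htop : J m = ⊤
  · refine ⟨m, eq_bot_iff.2 fun b hb => ?_⟩
    have h1 : (1 : A) ∈ J m := by rw [htop]; trivial
    have h2 := congrArg Subtype.val (Module.mem_annihilator.1 h1 ⟨N.mkQ b, Submodule.mem_map_of_mem hb⟩)
    rw [one_smul] at h2
    exact (Submodule.Quotient.mk_eq_zero N).1 h2
  exfalso
  obtain ⟨mx, hmx, hJmx⟩ := Ideal.exists_le_maximal _ htop
  have := hmx.isPrime
  obtain ⟨p, hp, -⟩ := Ideal.exists_minimalPrimes_le hJmx
  have hpp : p.IsPrime := hp.1.1
  set S := p.primeCompl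
  set T := Localization.AtPrime p
  let W : ℕ → Submodule T (LocalizedModule S (B ⧸ N)) := fun i => (M i).localized S
  have hWle : Antitone W := fun i j hij x hx => by
    obtain ⟨c, hc, s, rfl⟩ := hx
    exact ⟨c, hM hij hc, s, rfl⟩
  have : Module.Finite T (LocalizedModule S (B ⧸ N)) :=
    Module.Finite.of_isLocalizedModule S (LocalizedModule.mkLinearMap S (B ⧸ N))
  have : IsArtinian T (W m) := by
    have : Module.Finite T (W m) := Module.Finite.iff_fg.2 (IsNoetherian.noetherian _)
    refine isArtinian_of_killed (W := W m) ((J m).map (algebraMap A T)) ?_ fun Q hQ hle => ?_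
    · intro t ht
      have hker : (J m).map (algebraMap A T) ≤ Module.annihilator T (W m) := by
        rw [Ideal.map_le_iff_le_comap]
        intro a ha
        rw [Ideal.mem_comap, Module.mem_annihilator]
        rintro ⟨_, c, hc, s, rfl⟩
        refine Subtype.ext ?_
        show algebraMap A T a • IsLocalizedModule.mk' (LocalizedModule.mkLinearMap S (B ⧸ N)) c s = 0
        rw [algebraMap_smul, ← IsLocalizedModule.mk'_smul]
        have : a • c = 0 := congrArg Subtype.val (Module.mem_annihilator.1 ha ⟨c, hc⟩)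
        rw [this, IsLocalizedModule.mk'_zero]
      exact fun w => Module.mem_annihilator.1 (hker ht) w
    · have hQp : Q.comap (algebraMap A T) ≤ p := by
        intro a ha
        by_contra hap
        exact hQ.ne_top (Q.eq_top_of_isUnit_mem ha (IsLocalization.map_units T (⟨a, hap⟩ : S)))
      have := hp.2 ⟨Ideal.comap_isPrime _ Q, Ideal.map_le_iff_le_comap.1 hle⟩ hQp
      have heq : Q = IsLocalRing.maximalIdeal T := by
        rw [← IsLocalization.map_under S T Q, show Q.under A = p from le_antisymm hQp this, Localization.AtPrime.map_eq_maximalIdeal]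
      rw [heq]
      exact IsLocalRing.maximalIdeal.isMaximal T
  obtain ⟨i, hi⟩ := IsArtinian.monotone_stabilizes (R := T) (M := W m)
    ⟨fun i => OrderDual.toDual ((W (m + i)).comap (W m).subtype), fun i j hij =>
      Submodule.comap_mono (hWle (Nat.add_le_add_left hij m))⟩
  -- the equalizer condition holds locally at `p`
  have hloc : ∀ d : C (m + i), ∃ s ∉ p,
      s • (d ⊗ₜ[A] (1 : C (m + i)) - (1 : C (m + i)) ⊗ₜ[A] d) = (0 : C (m + i) ⊗[A] C (m + i)) := by
    intro d
    have hd : N.mkQ (d : B) ∈ M (m + i) := Submodule.mem_map_of_mem d.2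
    have hdW : LocalizedModule.mkLinearMap S (B ⧸ N) (N.mkQ d) ∈ W (m + i) :=
      ⟨_, hd, 1, IsLocalizedModule.mk'_one S _ _⟩
    have hmem : LocalizedModule.mkLinearMap S (B ⧸ N) (N.mkQ d) ∈ W (m + (i + 1)) := by
      have h1 := SetLike.ext_iff.1 (OrderDual.toDual_inj.1 (hi (i + 1) (Nat.le_succ i)))
        ⟨_, hWle (Nat.le_add_right m i) hdW⟩
      exact h1.1 hdW
    obtain ⟨c, hc, s, hcs⟩ := hmem
    rw [IsLocalizedModule.mk'_eq_iff] at hcs
    have hcs' : LocalizedModule.mkLinearMap S (B ⧸ N) ((s : A) • N.mkQ (d : B)) =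
        LocalizedModule.mkLinearMap S (B ⧸ N) c := by rw [map_smul]; exact hcs.symm
    obtain ⟨u, hu⟩ := IsLocalizedModule.exists_of_eq (S := S) hcs'
    obtain ⟨b', hb', hb'c⟩ := Submodule.mem_map.1 hc
    have hmem' : ((u : A) * s) • (d : B) ∈ C (m + i + 1) := by
      have hN : ((u : A) * s) • (d : B) - (u : A) • b' ∈ N := by
        rw [← Submodule.Quotient.mk_eq_zero, ← Submodule.mkQ_apply, map_sub, map_smul, map_smul, hb'c,
          mul_smul, sub_eq_zero]
        exact hu
      have hbot : N ≤ Subalgebra.toSubmodule (C (m + i + 1)) :=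
        Subalgebra.toSubmodule.monotone bot_le
      have := add_mem (hbot hN) ((Subalgebra.toSubmodule (C (m + i + 1))).smul_mem (u : A) hb')
      simpa using this
    obtain ⟨hb, e⟩ := (hstep (m + i) _).1 hmem'
    refine ⟨(u : A) * s, S.mul_mem u.2 s.2, ?_⟩
    rw [show (⟨((u : A) * s) • (d : B), hb⟩ : C (m + i)) = ((u : A) * s) • d from rfl,
      ← smul_tmul', tmul_smul] at e
    rw [smul_sub, e, sub_self]
  have : Module.Finite A (C (m + i)) :=
    Module.Finite.iff_fg.2 (IsNoetherian.noetherian (Subalgebra.toSubmodule (C (m + i))))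
  -- so `p` is outside the support
  have hzero : ∀ x : M (m + i), ∃ s ∉ p, s • x = 0 := by
    rintro ⟨_, b, hb, rfl⟩
    obtain ⟨s, hs, a, ha⟩ := mem_range_of_locally_tmul p hloc ⟨b, hb⟩
    refine ⟨s, hs, Subtype.ext ?_⟩
    show s • N.mkQ b = 0
    rw [← map_smul, Submodule.mkQ_apply, Submodule.Quotient.mk_eq_zero]
    exact (Algebra.mem_bot.2 ⟨a, congrArg Subtype.val ha⟩ : s • b ∈ (⊥ : Subalgebra A B))
  obtain ⟨k, g, hg⟩ := Module.Finite.exists_fin (R := A) (M := M (m + i))
  choose s hs hs' using fun j => hzero (g j)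
  have hprod : ∏ j, s j ∈ J (m + i) := by
    show _ ∈ Module.annihilator A (M (m + i))
    rw [Module.mem_annihilator]
    intro x
    have hx : x ∈ Submodule.span A (Set.range g) := by rw [hg]; trivial
    obtain ⟨c, rfl⟩ := (Submodule.mem_span_range_iff_exists_fun A).1 hx
    rw [Finset.smul_sum]
    refine Finset.sum_eq_zero fun j _ => ?_
    obtain ⟨r, hr⟩ := Finset.dvd_prod_of_mem s (Finset.mem_univ j)
    rw [smul_comm, hr, mul_comm, mul_smul, hs', smul_zero, smul_zero]
  rw [← hm (m + i) (Nat.le_add_right m i)] at hprod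
  exact (S.prod_mem fun j _ => hs j) (hp.1.2 hprod)

end IterEq
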